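import Cfsg.Agent.Lib.HN.EnumP.Steps0

/-! Generated certificate. -/

set_option autoImplicit false
set_option maxRecDepth 100000
set_option maxHeartbeats 0
set_option Elab.async false

namespace Cfsg.Lib.HN.EnumP

open Cfsg.Lib.CosetEnum (Tab)

theorem valid : cert.Valid rels where
  pos := by decide +kernel
  shifts := by decide +kernel
  defs := by decide +kernel
  steps := steps_0
  closed := by decide +kernel

theorem perm_ok : permOK tabP 352 [0, 1, 2, 4, 5] rels 352 0 = true := by decide +kernel

end Cfsg.Lib.HN.EnumP
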